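import Cfsg.Agent.H45.CosetSound

/-!
Relator words for the coset certificate of J2.
-/

set_option autoImplicit false

namespace Cfsg.Agent.H43.JTwo.Cert

/-- words in `C` -/
def cR : List (List ℕ) := [
  [0, 0],
  [1, 1],
  [2, 2],
  [3, 3],
  [4, 4],
  [5, 5],
  [6, 6],
  [0, 1, 0, 1],
  [0, 2, 0, 2],
  [0, 3, 0, 3],
  [0, 4, 0, 4],
  [0, 5, 0, 5],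
  [0, 6, 0, 6],
  [1, 2, 1, 2],
  [1, 3, 1, 3],
  [1, 6, 5, 6],
  [2, 3, 2, 3],
  [3, 4, 3, 5],
  [0, 1, 4, 1, 4],
  [0, 1, 5, 1, 5],
  [0, 4, 5, 4, 5],
  [0, 1, 0, 2, 1, 2],
  [0, 1, 0, 3, 1, 3],
  [0, 1, 0, 6, 5, 6],
  [0, 1, 2, 0, 1, 2],
  [0, 1, 2, 0, 2, 1],
  [0, 1, 2, 1, 0, 2],
  [0, 1, 3, 0, 1, 3],
  [0, 1, 3, 0, 3, 1],
  [0, 1, 3, 1, 0, 3],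
  [0, 1, 4, 0, 4, 1],
  [0, 1, 5, 0, 5, 1],
  [0, 1, 6, 0, 5, 6],
  [0, 1, 6, 0, 6, 1],
  [0, 1, 6, 5, 0, 6],
  [0, 2, 0, 3, 2, 3],
  [0, 2, 3, 0, 2, 3],
  [0, 2, 3, 0, 3, 2],
  [0, 2, 3, 2, 0, 3],
  [0, 2, 4, 0, 4, 2],
  [0, 2, 5, 0, 5, 2],
  [0, 2, 6, 0, 6, 2],
  [0, 3, 0, 4, 3, 5],
  [0, 3, 4, 0, 3, 5],
  [0, 3, 4, 0, 4, 3],
  [0, 3, 4, 3, 0, 5],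
  [0, 3, 5, 0, 5, 3],
  [0, 3, 5, 3, 0, 4],
  [0, 3, 6, 0, 6, 3],
  [0, 4, 5, 0, 5, 4],
  [0, 4, 6, 0, 6, 4],
  [0, 5, 0, 6, 1, 6],
  [0, 5, 6, 0, 6, 5],
  [1, 2, 1, 3, 2, 3],
  [1, 2, 3, 1, 2, 3],
  [1, 2, 3, 1, 3, 2],
  [1, 2, 3, 2, 1, 3],
  [1, 2, 6, 5, 6, 2],
  [1, 3, 1, 4, 3, 5],
  [1, 3, 6, 5, 6, 3],
  [1, 4, 1, 5, 4, 5],
  [1, 4, 5, 1, 5, 4],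
  [1, 4, 5, 4, 1, 5],
  [1, 5, 6, 1, 5, 6],
  [1, 6, 3, 4, 3, 6],
  [2, 3, 2, 4, 3, 5],
  [2, 4, 2, 6, 4, 6],
  [2, 6, 2, 6, 2, 6],
  [3, 4, 5, 3, 4, 5],
  [1, 4, 1, 4, 1, 4, 1, 4],
  [1, 5, 1, 5, 1, 5, 1, 5],
  [1, 6, 1, 6, 1, 6, 1, 6, 1, 6, 1, 6, 1, 6, 1, 6],
  [2, 4, 2, 4, 2, 4, 2, 4, 2, 4, 2, 4, 2, 4, 2, 4],
  [2, 5, 2, 5, 2, 5, 2, 5, 2, 5, 2, 5, 2, 5, 2, 5],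
  [3, 4, 3, 4, 3, 4, 3, 4, 3, 4, 3, 4, 3, 4, 3, 4],
  [3, 5, 3, 5, 3, 5, 3, 5, 3, 5, 3, 5, 3, 5, 3, 5],
  [3, 6, 3, 6, 3, 6, 3, 6, 3, 6],
  [4, 5, 4, 5, 4, 5, 4, 5],
  [4, 6, 4, 6, 4, 6, 4, 6, 4, 6, 4, 6, 4, 6, 4, 6],
  [5, 6, 5, 6, 5, 6, 5, 6, 5, 6, 5, 6, 5, 6, 5, 6],
  [1, 0, 1, 0],
  [1, 4, 1, 4, 0],
  [1, 5, 1, 5, 0],
  [1, 6, 1, 6, 5, 1],
  [2, 0, 2, 0],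
  [2, 1, 2, 1],
  [2, 4, 2, 2, 4, 2],
  [2, 5, 2, 2, 5, 2],
  [2, 6, 2, 2, 6, 2],
  [3, 0, 3, 0],
  [3, 1, 3, 1],
  [3, 2, 3, 2],
  [3, 5, 3, 4],
  [3, 6, 3, 3, 6, 3],
  [4, 0, 4, 0],
  [4, 1, 4, 1, 0],
  [4, 2, 4, 4, 2, 4],
  [4, 3, 4, 4, 5, 3],
  [4, 5, 4, 5, 0],
  [4, 6, 4, 4, 6, 4],
  [5, 0, 5, 0],
  [5, 1, 5, 1, 0],
  [5, 2, 5, 5, 2, 5],
  [5, 3, 5, 5, 4, 3],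
  [5, 4, 5, 4, 0],
  [5, 6, 5, 6, 1, 5],
  [6, 0, 6, 0],
  [6, 1, 6, 5],
  [6, 2, 6, 2, 6, 2],
  [6, 3, 6, 6, 3, 6],
  [6, 4, 6, 2, 4, 2],
  [6, 5, 6, 1],
  [0, 1, 1, 0],
  [0, 2, 2, 0],
  [0, 3, 3, 0],
  [0, 4, 4, 0],
  [0, 5, 5, 0],
  [0, 6, 6, 0],
  [1, 2, 2, 1],
  [1, 3, 3, 1],
  [1, 4, 4, 1],
  [1, 5, 5, 1],
  [1, 6, 6, 1],
  [2, 3, 3, 2],
  [2, 4, 4, 2],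
  [2, 5, 5, 2],
  [2, 6, 6, 2],
  [3, 4, 4, 3],
  [3, 5, 5, 3],
  [3, 6, 6, 3],
  [4, 1, 1, 4],
  [4, 2, 2, 4],
  [4, 5, 5, 4],
  [4, 6, 6, 4],
  [5, 1, 1, 5],
  [5, 2, 2, 5],
  [5, 4, 4, 5],
  [5, 6, 6, 5],
  [5, 6, 1, 6],
  [6, 2, 2, 6],
  [6, 3, 3, 6],
  [6, 4, 4, 6],
  [2, 5, 4, 1, 2, 4, 5],
  [2, 3, 6, 2, 3, 6, 2, 3, 6, 3, 2, 6, 3, 2, 6]]

/-- words in `L` -/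
def lR : List (List ℕ) := [
  [7, 7],
  [8, 8],
  [9, 9],
  [0, 9, 8, 9],
  [1, 7, 9, 7],
  [0, 1, 8, 7, 8],
  [0, 1, 0, 7, 9, 7],
  [0, 1, 9, 8, 9, 1],
  [0, 7, 0, 7, 0, 7],
  [0, 7, 1, 7, 8, 9],
  [0, 8, 0, 8, 0, 9],
  [0, 8, 0, 8, 9, 8],
  [0, 8, 9, 0, 8, 9],
  [1, 7, 1, 9, 1, 9],
  [1, 7, 9, 1, 7, 9],
  [1, 8, 1, 8, 1, 8],
  [1, 9, 1, 9, 7, 9],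
  [0, 8, 0, 8, 0, 8, 0, 8, 0, 8],
  [0, 9, 0, 9, 0, 9, 0, 9, 0, 9],
  [1, 7, 1, 7, 1, 7, 1, 7, 1, 7],
  [1, 9, 1, 9, 1, 9, 1, 9, 1, 9],
  [7, 8, 7, 8, 7, 8, 7, 8, 7, 8],
  [7, 9, 7, 9, 7, 9, 7, 9, 7, 9],
  [8, 9, 8, 9, 8, 9, 8, 9, 8, 9]]

/-- commutation of `B` and `L` -/
def bR : List (List ℕ) := [
  [2, 7, 2, 7],
  [2, 8, 2, 8],
  [2, 9, 2, 9],
  [3, 7, 3, 7],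
  [3, 8, 3, 8],
  [3, 9, 3, 9]]

/-- conjugation by the element of order three -/
def sR : List (List ℕ) := [
  [0, 8, 1, 9, 4, 2, 4, 2, 9, 1, 8, 0, 2, 4, 5, 3],
  [0, 8, 1, 9, 4, 5, 9, 1, 8, 0, 5, 2, 4],
  [0, 8, 1, 9, 4, 2, 5, 2, 9, 1, 8, 0, 2, 5, 2, 5, 3],
  [0, 8, 1, 9, 3, 6, 3, 6, 2, 3, 6, 9, 1, 8, 0, 6, 3, 2, 6, 3, 6, 3]]

/-- centraliser of the element of order five -/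
def kR : List (List ℕ) := [
  [1, 8, 9, 1, 2, 1, 9, 8, 1, 2],
  [1, 8, 9, 1, 3, 1, 9, 8, 1, 3],
  [1, 8, 9, 1, 6, 1, 9, 8, 1, 6]]

/-- all relators -/
def relWords : List (List ℕ) := cR ++ lR ++ bR ++ sR ++ kR

end Cfsg.Agent.H43.JTwo.Cert
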