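import Cfsg.Agent.Compute.J2.Quotient
import Cfsg.Agent.Compute.J2.Facts
import Cfsg.Agent.H43.JTwo.Cert.Words

/-!
Ten involutions of J2 satisfying the relators.
-/

set_option autoImplicit false

namespace Cfsg.Agent.H43.JTwo.Cert

open Compute Compute.J2 H45

/-- packed permutations -/
def imgs : List ℕ := [
  0xc75aa51bf2a344a102cbf878a7e1a6d305bab398af77795c88f75c5caed60dab0d91bc96e90c56efa1523c726b09865698925d49634512937a49c903accfb2149d72c54a03a648882a01e1068c066c4822a1888e1620001,
  0xc73191fbe69dcd3646c978abca1ca748e8a4ca6e628c9d0c84b2ebb170b868554f9eadbae95c36ed8cb43d86230ad09e2072fe716953e393464a4acc0ce8d4b779a90b0a0ad5488ad181e0608c05404830e1a000102c704,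
  0x6116db1a756c1dc241d5d98e2f50beda6d494968d7553da8652ff11f5ead6a08cd038d2f657561f4a4be506f06386e6085852e3b34c9e7222a90cc0885ae0a6451091767919a244cc5a6e21e09007060e7b21602021018b,
  0x1f2b0611958c8a62064214d79c511256a4d8ab68278588bd91aba79b292d28072f5f296a19fd5608dd87247edb7351a70254ade13995e0966c7ac0b6488e1d88bee88929294350cc703c6463df417299868e820520b2d40,
  0xc71a4b8192ab00b769d083f7482ba64a2d0413873b5f7b0c88f8a8813ad60c004cd22d99659606e7a1227ce420f96b9e14a80d4954e612bd26d0e4faeda1a11468ca6161d42c47482d561346df2e6c4d82c188b154fe25c,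
  0x6f5aa971866ec40a6ec9d118b0cfa64d511a8a66cc76b90068f185dc046a08a3e5893c96e9603c6a13a42a998b05f296b921467366ac92b4448cc497e1ec14b50af21c0f999ca4f682b1e106df8b004d73d22d8e710c080,
  0x5acd70b8271e964085d437e7a11960001906aa5f1544c8da50c8cfa8b156fb9af36eb7256601d78c6781c529b530f8718514227444c9e40e8d2ed5b8b59c5e9252a11057261a08ecc50129060dc0ac7aa5f1d613a25da52,
  0xb4730e086b114fb78e8a4ae082c85ee6c86b939d4c52764d4548c511bef20c02acc942773690406b9aa87c21890a6d96de1b1e5b44e992d88d74b2030665621c24f1f2e85f8c0ef6230026d5941714d322742ab86f58780,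
  0x4d8a989b641494bf550471e0ed08c348c0e9e888b7972940bb0f62c41508b3a0eba3192501a0198d99b96ac862738f8f2c56aaec9618d22547386d93eb4d2f3675e512704adc2eee6deaf410b1910f0547e00284ac09c06,
  0x89204180881ea61d6a507142e05404368d0752e69c9d64b622b1836386b55d57e66eb6453dc8064f0f2166dc89f5eba10982951a83b7151752eda5e60d53cc1e69f6049263942649890376e905ad5d661b11465f074c0b8]

/-- words for the primitive generators -/
def primWords : List (List ℕ) := [[0], [5, 1, 7, 1, 5], [0, 2, 5, 8, 9, 5, 2], [5, 6, 4, 7, 4, 1, 6]]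

/-- value of a word as a code -/
noncomputable def cval : List ℕ → ℕ
  | [] => quoOps.one
  | l :: w => quoOps.mul (imgs.getD l quoOps.one) (cval w)

set_option maxRecDepth 100000 in
theorem imgs_ok : imgs.all (fun c => quoOps.okInv c c && sift quoOps quoChain c) = true := by
  decide +kernel

set_option maxRecDepth 100000 in
theorem rels_ok : relWords.all (fun w => quoOps.eqv (cval w) quoOps.one) = true := by decide +kernel

set_option maxRecDepth 100000 in
theorem prims_ok : quoPrim.all (fun p => primWords.any fun w => Nat.beq (cval w) p) = true := by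
  decide +kernel

theorem img_facts (l : ℕ) : quoSound.ok (imgs.getD l quoOps.one) ∧
    quoSound.den (imgs.getD l quoOps.one) ∈ quoGrp ∧
    quoSound.den (imgs.getD l quoOps.one) * quoSound.den (imgs.getD l quoOps.one) = 1 := by
  rw [List.getD_eq_getElem?_getD]
  cases h : imgs[l]? with
  | none =>
    simp only [Option.getD_none]
    refine ⟨quoSound.ok_one, ?_, ?_⟩ <;> rw [quoSound.den_one]
    · exact one_mem _
    · exact one_mul 1
  | some c =>
    simp only [Option.getD_some]
    have h' := (List.all_eq_true.mp imgs_ok) c (List.mem_of_getElem? h)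
    rw [Bool.and_eq_true] at h'
    obtain ⟨h1, h2⟩ := h'
    obtain ⟨ok, -, hi⟩ := quoSound.okInv_sound h1
    refine ⟨ok, ((checkChain_sound quoSound quoChain_ok).sift_iff _ ok).1 h2, ?_⟩
    rw [eq_inv_iff_mul_eq_one] at hi
    exact hi

/-- the letters in J2 -/
noncomputable def jl (l : ℕ) : quoGrp := ⟨quoSound.den (imgs.getD l quoOps.one), (img_facts l).2.1⟩

theorem jl_sq (l : ℕ) : jl l * jl l = 1 := Subtype.ext (img_facts l).2.2

theorem cval_spec : ∀ w : List ℕ,
    quoSound.ok (cval w) ∧ quoSound.den (cval w) = ((evalW jl w : quoGrp) : Equiv.Perm (Fin 100)) := by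
  intro w
  induction w with
  | nil => exact ⟨quoSound.ok_one, by rw [cval, quoSound.den_one]; rfl⟩
  | cons l w ih =>
    refine ⟨quoSound.ok_mul (img_facts l).1 ih.1, ?_⟩
    rw [cval, quoSound.den_mul (img_facts l).1 ih.1, ih.2, evalW_cons]
    rfl

theorem jl_rel : ∀ w ∈ relWords, evalW jl w = 1 := by
  intro w hw
  have h := (quoSound.eqv_iff (cval_spec w).1 quoSound.ok_one).1 ((List.all_eq_true.mp rels_ok) w hw)
  rw [(cval_spec w).2, quoSound.den_one] at h
  exact Subtype.ext h

theorem jl_gen : Subgroup.closure (Set.range jl) = ⊤ := by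
  rw [eq_top_iff]
  rintro ⟨x, hx⟩ -
  have key : quoGrp ≤ (Subgroup.closure (Set.range jl)).map quoGrp.subtype := by
    conv_lhs => rw [quoGrp_eq]
    rw [Subgroup.closure_le]
    rintro _ ⟨p, hp, rfl⟩
    obtain ⟨w, -, hw⟩ := List.any_eq_true.mp ((List.all_eq_true.mp prims_ok) p hp)
    refine ⟨evalW jl w, list_prod_mem ?_, ?_⟩
    · intro y hy
      obtain ⟨l, -, rfl⟩ := List.mem_map.mp hy
      exact Subgroup.subset_closure ⟨l, rfl⟩
    · rw [← Nat.eq_of_beq_eq_true hw, (cval_spec w).2]
      rfl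
  obtain ⟨y, hy, e⟩ := key hx
  obtain rfl : y = ⟨x, hx⟩ := Subtype.ext e
  exact hy

end Cfsg.Agent.H43.JTwo.Cert
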