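import Cfsg.Agent.H45.CosetPerm
import Cfsg.Agent.H43.JTwo.Cert.TableC
import Cfsg.Agent.H43.JTwo.Cert.TableG
import Cfsg.Agent.H43.JTwo.Cert.Images

/-!
A group of order 604800 generated in part by involutions satisfying the relators is J2.
-/

set_option autoImplicit false

namespace Cfsg.Agent.H43.JTwo.Cert

open H45 Compute Compute.J2

variable {P : Type*} [Group P]

theorem linv_range' (L l : ℕ) : linv (List.range L) l = l := by
  unfold linv
  rcases Nat.lt_or_ge l L with h | h
  · simp [List.getD_eq_getElem?_getD, h]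
  · simp [List.getD_eq_getElem?_getD, List.getElem?_eq_none (by simpa using h : (List.range L).length ≤ l)]

theorem lt_of_colOK {L n : ℕ} {cols : List ℕ}
    (h : ((List.range L).all fun l => colOK (cols.getD l 0) (cols.getD l 0) n n) = true) :
    ∀ l, l < L → ∀ i, i < n → tget cols i l < n :=
  fun _ hl i hi => (colOK_sound (range_all h hl) i hi).1

/-- the two tables bound the generated subgroup -/
theorem card_le {e : ℕ → P} (hsq : ∀ l, e l * e l = 1) (hrel : ∀ w ∈ relWords, evalW e w = 1) :
    Finite (Subgroup.closure {g | ∃ l < 10, e l = g}) ∧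
      Nat.card (Subgroup.closure {g | ∃ l < 10, e l = g}) ≤ 604800 := by
  have hi : ∀ L l, e (linv (List.range L) l) = (e l)⁻¹ := fun L l => by
    rw [linv_range']; exact eq_inv_of_mul_eq_one_left (hsq l)
  set C := Subgroup.closure {g | ∃ l < 7, e l = g} with hC
  set H := Subgroup.closure {g | ∃ l < 10, e l = g} with hH
  have hDC : Hyp TableC.dat e (⊥ : Subgroup P) :=
    ⟨hi 7, fun w hw => hrel w (by
      simp only [relWords, List.append_assoc]
      exact List.mem_append_left _ hw), fun w hw => absurd hw List.not_mem_nil⟩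
  obtain ⟨-, v, hv0, -, hv⟩ := closeCheck_sound hDC (E := C)
    (fun l hl => Subgroup.subset_closure ⟨l, hl, rfl⟩) TableC.close_ok
  obtain ⟨hCf, hCle⟩ := card_le_of_cosets (H := (⊥ : Subgroup P)) (m := 1)
    (cosets_exhaust (E := C) (L := 7) (iv := List.range 7) le_rfl
      (fun l hl => ⟨by rw [linv_range']; exact hl, hi 7 l⟩)
      (lt_of_colOK TableC.lt_ok) (by norm_num) hv0 hv) (le_of_eq Subgroup.card_bot)
  have hDG : Hyp TableG.dat e C := by
    refine ⟨hi 10, hrel, fun w hw => list_prod_mem fun x hx => ?_⟩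
    obtain ⟨l, hl, rfl⟩ := List.mem_map.mp hx
    refine Subgroup.subset_closure ⟨l, ?_, rfl⟩
    simp only [TableG.dat, List.mem_cons, List.not_mem_nil, or_false] at hw
    rcases hw with rfl | rfl | rfl | rfl | rfl | rfl | rfl <;>
      · simp only [List.mem_cons, List.not_mem_nil, or_false] at hl; omega
  obtain ⟨-, w, hw0, -, hw⟩ := closeCheck_sound hDG (E := H)
    (fun l hl => Subgroup.subset_closure ⟨l, hl, rfl⟩) TableG.close_ok
  haveI := hCf
  obtain ⟨hHf, hHle⟩ := card_le_of_cosets (H := C) (m := 1920 * 1)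
    (cosets_exhaust (E := H) (L := 10) (iv := List.range 10) le_rfl
      (fun l hl => ⟨by rw [linv_range']; exact hl, hi 10 l⟩)
      (lt_of_colOK TableG.lt_ok) (by norm_num) hw0 hw) hCle
  exact ⟨hHf, by omega⟩

theorem jl_eq_one {l : ℕ} (hl : 10 ≤ l) : jl l = 1 := by
  apply Subtype.ext
  show quoSound.den (imgs.getD l quoOps.one) = _
  rw [List.getD_eq_getElem?_getD, List.getElem?_eq_none (show imgs.length ≤ l from hl)]
  exact quoSound.den_one

theorem jl_closure : Subgroup.closure {g | ∃ l < 10, jl l = g} = ⊤ := by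
  rw [eq_top_iff, ← jl_gen, Subgroup.closure_le]
  rintro _ ⟨l, rfl⟩
  rcases Nat.lt_or_ge l 10 with h | h
  · exact Subgroup.subset_closure ⟨l, h, rfl⟩
  · rw [jl_eq_one h]; exact one_mem _

/-- Identification by the relators. -/
theorem isoJ2_of_rels {G : Type*} [Group G] [Finite G] (hG : Nat.card G = 604800) (e : ℕ → G)
    (hsq : ∀ l, e l * e l = 1) (hrel : ∀ w ∈ relWords, evalW e w = 1) (hne : e 0 ≠ 1) :
    Cfsg.Spor.IsoJ2 G := by
  let p : ℕ → G × quoGrp := fun l => (e l, jl l)
  have hev : ∀ w, evalW p w = (evalW e w, evalW jl w) := by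
    intro w
    induction w with
    | nil => rfl
    | cons x w ih => rw [evalW_cons, ih, evalW_cons, evalW_cons]; rfl
  obtain ⟨hf, hle⟩ := card_le (e := p) (fun l => Prod.ext (hsq l) (jl_sq l))
    (fun w hw => by rw [hev, hrel w hw, jl_rel w hw]; rfl)
  set H := Subgroup.closure {g | ∃ l < 10, p l = g} with hH
  haveI := hf
  let π₂ : H →* quoGrp := (MonoidHom.snd G quoGrp).comp H.subtype
  have hsurj : Function.Surjective π₂ := by
    intro y
    have hle : Subgroup.closure {g | ∃ l < 10, jl l = g} ≤ π₂.range := by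
      rw [Subgroup.closure_le]
      rintro _ ⟨l, hl, rfl⟩
      exact ⟨⟨p l, Subgroup.subset_closure ⟨l, hl, rfl⟩⟩, rfl⟩
    exact hle (jl_closure ▸ Subgroup.mem_top y)
  have hbij : Function.Bijective π₂ :=
    (Nat.bijective_iff_surjective_and_card _).mpr ⟨hsurj, by
      have := Nat.card_le_card_of_surjective _ hsurj
      rw [card_quoGrp] at this ⊢
      omega⟩
  have hsimple : IsSimpleGroup quoGrp := isSimple_quoGrp
  let ψ : quoGrp →* G :=
    (MonoidHom.fst G quoGrp).comp (H.subtype.comp (MulEquiv.ofBijective π₂ hbij).symm.toMonoidHom)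
  have hψ : ψ ≠ 1 := by
    intro h
    apply hne
    have h0 : (MulEquiv.ofBijective π₂ hbij).symm (jl 0) =
        ⟨p 0, Subgroup.subset_closure ⟨0, by norm_num, rfl⟩⟩ :=
      (MulEquiv.symm_apply_eq _).mpr rfl
    calc e 0 = ψ (jl 0) := by simp [ψ, h0, p]
      _ = 1 := by rw [h]; rfl
  have hinj : Function.Injective ψ := by
    rw [← MonoidHom.ker_eq_bot_iff]
    refine (IsSimpleGroup.eq_bot_or_eq_top_of_normal ψ.ker inferInstance).resolve_right fun h => hψ ?_
    ext x
    exact MonoidHom.mem_ker.mp (h ▸ Subgroup.mem_top x)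
  have hb : Function.Bijective ψ :=
    (Nat.bijective_iff_injective_and_card _).mpr ⟨hinj, by rw [card_quoGrp, hG]⟩
  exact ⟨(MulEquiv.ofBijective ψ hb).symm.trans equivJ2.symm⟩

end Cfsg.Agent.H43.JTwo.Cert
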